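import Groth.Agent.Lib.FlatSyz.TorDim

/-! Vanishing of Tor is symmetric in the two arguments. -/

open CategoryTheory CategoryTheory.Limits MonoidalCategory TensorProduct

set_option linter.style.haveILetI false

universe u

namespace Groth.Agent.TorSymm3

open FlatSyz

variable {B : Type u} [CommRing B]

/-- `Tor₁(M, N) = 0` read off from any presentation of `N` with flat middle term. -/
theorem isZero_tor_one_iff {M : Type u} [AddCommGroup M] [Module B M] (N : ModuleCat.{u} B)
    {L P : Type u} [AddCommGroup L] [Module B L] [AddCommGroup P] [Module B P] [Module.Flat B P]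
    (j : L →ₗ[B] P) (hj : Function.Injective j) (q : P →ₗ[B] N) (hjq : Function.Exact j q)
    (hq : Function.Surjective q) :
    IsZero (((Tor (ModuleCat.{u} B) 1).obj (ModuleCat.of B M)).obj N) ↔ Function.Injective (j.lTensor M) := by
  let Pr := ProjectiveResolution.of N
  haveI := flat_X Pr 0
  let q₀ : Pr.complex.X 0 →ₗ[B] N := (Pr.π.f 0).hom
  have hq₀ : Function.Surjective q₀ := (ModuleCat.epi_iff_surjective (Pr.π.f 0)).1 inferInstance
  have hex : Function.Exact (LinearMap.range (dLin Pr 0)).subtype q₀ := fun x =>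
    ⟨fun hx => ⟨⟨x, (ShortComplex.moduleCat_exact_iff _).1 Pr.exact₀ x hx⟩, rfl⟩,
      fun ⟨⟨_, z, hz⟩, hy⟩ => by
        subst hy; subst hz
        exact LinearMap.congr_fun (congrArg ModuleCat.Hom.hom Pr.complex_d_comp_π_f_zero) z⟩
  let p := Finsupp.linearCombination B (id : M → M)
  have hp : Function.Surjective p := Finsupp.linearCombination_id_surjective B M
  have hpx : Function.Exact (LinearMap.ker p).subtype p := LinearMap.exact_subtype_ker_map p
  have hpi : Function.Injective (LinearMap.ker p).subtype := (LinearMap.ker p).injective_subtype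
  rw [isZero_tor_succ_iff Pr 0,
    lTensor_injective_iff_rTensor_injective (K := ↥(LinearMap.ker p)) (LinearMap.ker p).subtype hpi p
      hpx hp _ (Submodule.injective_subtype _) q₀ hex hq₀,
    lTensor_injective_iff_rTensor_injective (K := ↥(LinearMap.ker p)) (LinearMap.ker p).subtype hpi p
      hpx hp j hj q hjq hq]

theorem isZero_tor_one_comm_of {X Y : Type u} [AddCommGroup X] [Module B X] [AddCommGroup Y] [Module B Y]
    {K F L P : Type u} [AddCommGroup K] [Module B K] [AddCommGroup F] [Module B F] [AddCommGroup L] [Module B L]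
    [AddCommGroup P] [Module B P] [Module.Flat B F] [Module.Flat B P]
    (i : K →ₗ[B] F) (hi : Function.Injective i) (p : F →ₗ[B] X) (hip : Function.Exact i p) (hp : Function.Surjective p)
    (j : L →ₗ[B] P) (hj : Function.Injective j) (q : P →ₗ[B] Y) (hjq : Function.Exact j q) (hq : Function.Surjective q) :
    IsZero (((Tor (ModuleCat.{u} B) 1).obj (ModuleCat.of B X)).obj (ModuleCat.of B Y)) ↔
      IsZero (((Tor (ModuleCat.{u} B) 1).obj (ModuleCat.of B Y)).obj (ModuleCat.of B X)) := by
  rw [isZero_tor_one_iff (ModuleCat.of B Y) j hj q hjq hq, isZero_tor_one_iff (ModuleCat.of B X) i hi p hip hp,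
    lTensor_injective_iff_rTensor_injective i hi p hip hp j hj q hjq hq]
  exact (LinearMap.lTensor_inj_iff_rTensor_inj Y _).symm

theorem exists_presentation (X : Type u) [AddCommGroup X] [Module B X] :
    ∃ (K F : Type u) (_ : AddCommGroup K) (_ : Module B K) (_ : AddCommGroup F) (_ : Module B F)
      (_ : Module.Flat B F) (i : K →ₗ[B] F) (p : F →ₗ[B] X),
      Function.Injective i ∧ Function.Exact i p ∧ Function.Surjective p :=
  ⟨LinearMap.ker (Finsupp.linearCombination B (id : X → X)), X →₀ B, inferInstance, inferInstance, inferInstance,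
    inferInstance, inferInstance, Submodule.subtype _, Finsupp.linearCombination B id,
    Submodule.injective_subtype _, LinearMap.exact_subtype_ker_map _, Finsupp.linearCombination_id_surjective B X⟩

/-- `Tor₁` vanishing is symmetric. -/
theorem isZero_tor_one_comm (X Y : Type u) [AddCommGroup X] [Module B X] [AddCommGroup Y] [Module B Y] :
    IsZero (((Tor (ModuleCat.{u} B) 1).obj (ModuleCat.of B X)).obj (ModuleCat.of B Y)) ↔
      IsZero (((Tor (ModuleCat.{u} B) 1).obj (ModuleCat.of B Y)).obj (ModuleCat.of B X)) := by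
  obtain ⟨K, F, _, _, _, _, _, i, p, hi, hip, hp⟩ := exists_presentation (B := B) X
  obtain ⟨L, P, _, _, _, _, _, j, q, hj, hjq, hq⟩ := exists_presentation (B := B) Y
  exact isZero_tor_one_comm_of i hi p hip hp j hj q hjq hq

/-- The syzygies of a projective resolution, with their inclusion maps. -/
theorem isZero_tor_swap_aux {X : ModuleCat.{u} B} (Pr : ProjectiveResolution X) (Y : ModuleCat.{u} B) :
    ∀ m j : ℕ,
      IsZero (((Tor (ModuleCat.{u} B) (j + 1)).obj (ModuleCat.of B (LinearMap.range (dLin Pr m)))).obj Y) ↔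
      IsZero (((Tor (ModuleCat.{u} B) (j + m + 2)).obj (ModuleCat.of B X)).obj Y) := by
  intro m
  induction m with
  | zero =>
    intro j
    haveI := flat_X Pr 0
    let q₀ : Pr.complex.X 0 →ₗ[B] X := (Pr.π.f 0).hom
    have hq₀ : Function.Surjective q₀ := (ModuleCat.epi_iff_surjective (Pr.π.f 0)).1 inferInstance
    have hex : Function.Exact (LinearMap.range (dLin Pr 0)).subtype q₀ := fun x =>
      ⟨fun hx => ⟨⟨x, (ShortComplex.moduleCat_exact_iff _).1 Pr.exact₀ x hx⟩, rfl⟩,
        fun ⟨⟨_, z, hz⟩, hy⟩ => by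
          subst hy; subst hz
          exact LinearMap.congr_fun (congrArg ModuleCat.Hom.hom Pr.complex_d_comp_π_f_zero) z⟩
    exact (isZero_tor_shift (N := Y) _ (Submodule.injective_subtype _) q₀ hex hq₀ j).symm
  | succ m ih =>
    intro j
    haveI := flat_X Pr (m + 1)
    let e := (dLin Pr m).rangeRestrict
    have hex : Function.Exact (LinearMap.range (dLin Pr (m + 1))).subtype e := fun x =>
      ⟨fun hx => ⟨⟨x, (dLin_exact Pr m x).1 (congrArg Subtype.val hx)⟩, rfl⟩,
        fun ⟨y, hy⟩ => Subtype.ext ((dLin_exact Pr m x).2 (hy ▸ y.2))⟩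
    rw [← isZero_tor_shift (N := Y) _ (Submodule.injective_subtype _) e hex
      (LinearMap.surjective_rangeRestrict _) j, ih (j + 1)]
    rw [show j + 1 + m + 2 = j + (m + 1) + 2 by omega]

/-- Vanishing of Tor is symmetric. -/
theorem isZero_tor_comm (n : ℕ) (X Y : Type u) [AddCommGroup X] [Module B X] [AddCommGroup Y] [Module B Y] :
    IsZero (((Tor (ModuleCat.{u} B) (n + 1)).obj (ModuleCat.of B X)).obj (ModuleCat.of B Y)) ↔
      IsZero (((Tor (ModuleCat.{u} B) (n + 1)).obj (ModuleCat.of B Y)).obj (ModuleCat.of B X)) := by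
  cases n with
  | zero => exact isZero_tor_one_comm X Y
  | succ n =>
    let Pr := ProjectiveResolution.of (ModuleCat.of B Y)
    haveI := flat_X Pr (n + 1)
    let e := (dLin Pr n).rangeRestrict
    have hex : Function.Exact (LinearMap.range (dLin Pr (n + 1))).subtype e := fun x =>
      ⟨fun hx => ⟨⟨x, (dLin_exact Pr n x).1 (congrArg Subtype.val hx)⟩, rfl⟩,
        fun ⟨y, hy⟩ => Subtype.ext ((dLin_exact Pr n x).2 (hy ▸ y.2))⟩
    rw [isZero_tor_succ_iff Pr (n + 1),
      ← isZero_tor_one_iff (ModuleCat.of B (LinearMap.range (dLin Pr n))) _ (Submodule.injective_subtype _) e hex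
        (LinearMap.surjective_rangeRestrict _),
      isZero_tor_one_comm, isZero_tor_swap_aux Pr (ModuleCat.of B X) n 0, Nat.zero_add]

end Groth.Agent.TorSymm3
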